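import Cfsg.Agent.KZ.Levi.Main
import Cfsg.Agent.KZ.Lie.DGen
import Cfsg.Agent.Blocks.ConvCentral

/-!
# HZ/L, box `Cr`: the abstract part (helper74)

* `cv_irr`, `cv_ne`, `exists_ov`, `twist` : convolution with an invariant function on a normal subgroup;
* `ind_conv` : the convolution commutes with the induction; `ind_res` : restriction of the induction.
-/

set_option autoImplicit false
set_option linter.unusedSectionVars false

namespace Cfsg.Agent.HZ.L.Cr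

open Cfsg Cfsg.Agent.DL Cfsg.Agent.DL.CF Cfsg.Agent.DL.Lef Cfsg.Agent.Characters.Core Cfsg.Agent.Blocks.ConvCentral
  Cfsg.Agent.CharactersDeep.AbelianQuotient
open scoped ComplexConjugate

section Chr

variable {N X H : Type} [Group N] [Group X] [Group H] [Fintype N] [Fintype X] [Fintype H] {ι : N →* X} {κ : N →* H}
  {a : N → ℂ}

/-- the image is normal and the function is invariant -/
def Nv (ι : N →* X) (a : N → ℂ) : Prop := ∀ x n, ∃ n', ι n' = x * ι n * x⁻¹ ∧ a n' = a n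

theorem sum_ext (hι : Function.Injective ι) (a : N → ℂ) (φ : X → ℂ) :
    ∑ n, a n * φ (ι n) = ∑ x, Function.extend ι a 0 x * φ x :=
  Fintype.sum_of_injective ι hι _ _ (fun x hx => by rw [Function.extend_apply' _ _ _ hx, Pi.zero_apply, zero_mul])
    fun n => by rw [hι.extend_apply]

theorem cv_irr (hι : Function.Injective ι) (ha : Nv ι a) {ψ : X → ℂ} (hψ : IsIrrCharacter X ψ) (g : X) :
    (∑ n, a n * ψ (g * ι n)) * ψ 1 = (∑ n, a n * ψ (ι n)) * ψ g := by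
  have h1 : IsClassFunction X (Function.extend ι a 0) := fun x h => by
    by_cases hx : ∃ n, ι n = x
    · obtain ⟨n, rfl⟩ := hx
      obtain ⟨n', h1, h2⟩ := ha h n
      rw [← h1, hι.extend_apply, hι.extend_apply, h2]
    · rw [Function.extend_apply' _ _ _ hx, Function.extend_apply' _ _ _ fun ⟨n, hn⟩ =>
        hx ((ha h⁻¹ n).imp fun n' h1 => by rw [h1.1, hn]; group)]
      rfl
  obtain ⟨m, ρ, hρ, rfl⟩ := hψ
  obtain ⟨c, hc⟩ := exists_scalar ρ hρ h1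
  have h2 : ∀ g, ∑ n, a n * ρ.character (g * ι n) = c * ρ.character g := fun g => by
    have h3 := congrArg (fun T => LinearMap.trace ℂ _ (ρ g * T)) hc
    simp only [opOf_def, Finset.mul_sum, mul_smul_comm, map_sum, map_smul, mul_one, smul_eq_mul, ← map_mul] at h3
    exact (sum_ext hι a fun x => ρ.character (g * x)).trans h3
  have h3 := h2 1
  simp only [one_mul] at h3
  rw [h2, h3, mul_right_comm]

theorem cv_ne (hκ : Function.Injective κ) {χ φ : H → ℂ} (hχ : IsIrrCharacter H χ) (ha : Nv κ fun n => conj (χ (κ n)))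
    (h : classInner χ φ ≠ 0) : ∃ g, ∑ n, conj (χ (κ n)) * φ (g * κ n) ≠ 0 := by
  by_contra h0
  push Not at h0
  have h1 : ∑ n, conj (χ (κ n)) * χ (κ n) ≠ 0 := fun e => by
    simp only [Complex.conj_mul', ← Complex.ofReal_pow, ← Complex.ofReal_sum, Complex.ofReal_eq_zero] at e
    have h2 := (Finset.sum_eq_zero_iff_of_nonneg fun _ _ => sq_nonneg _).1 e 1 (Finset.mem_univ _)
    rw [map_one, sq_eq_zero_iff, norm_eq_zero] at h2
    exact isIrr_apply_one_ne_zero hχ h2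
  have h2 : ∑ g, (∑ n, conj (χ (κ n)) * φ (g * κ n)) * χ g⁻¹ = ∑ g, φ g * ∑ n, conj (χ (κ n)) * χ (g⁻¹ * κ n) := by
    simp only [Finset.sum_mul, Finset.mul_sum]
    rw [Finset.sum_comm, Finset.sum_comm (f := fun g n => φ g * _)]
    refine Finset.sum_congr rfl fun n _ => Fintype.sum_equiv (Equiv.mulRight (κ n)) _ _ fun g => ?_
    rw [Equiv.coe_mulRight, ← isIrr_isClassFunction hχ g⁻¹ (κ n)⁻¹, mul_inv_rev, inv_inv]
    ring
  have h3 := congrArg (· * χ 1) h2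
  simp only [h0, zero_mul, Finset.sum_const_zero] at h3
  rw [Finset.sum_mul] at h3
  simp only [mul_assoc, cv_irr hκ ha hχ] at h3
  refine h ?_
  rw [← classInner_conj_symm, map_eq_zero, classInner_def, mul_eq_zero]
  refine .inr (mul_left_cancel₀ h1 ?_)
  rw [mul_zero, h3, Finset.mul_sum]
  exact Finset.sum_congr rfl fun g _ => by rw [isCharacter_apply_inv (isIrr_isCharacter hχ), mul_left_comm]

theorem exists_ov (hι : Function.Injective ι) (ha : Nv ι a) {f : X → ℂ} (hf : IsClassFunction X f) {l : X}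
    (h : ∑ n, a n * f (l * ι n) ≠ 0) :
    ∃ ψ, IsIrrCharacter X ψ ∧ classInner ψ f ≠ 0 ∧ ∑ n, a n * ψ (ι n) ≠ 0 := by
  have := @Fintype.ofFinite _ (finite_irr (G := X))
  rw [classFunction_eq_sum hf] at h
  simp only [Finset.sum_apply, Finset.mul_sum, Pi.smul_apply, smul_eq_mul] at h
  rw [Finset.sum_comm] at h
  obtain ⟨ψ, -, h⟩ := Finset.exists_ne_zero_of_sum_ne_zero h
  simp only [mul_left_comm (a _), ← Finset.mul_sum] at h
  refine ⟨ψ, ψ.2, fun e => left_ne_zero_of_mul h (by rw [← classInner_conj_symm, e, map_zero]), fun e => ?_⟩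
  have h1 := cv_irr hι ha ψ.2 l
  rw [e, zero_mul] at h1
  exact mul_ne_zero (right_ne_zero_of_mul h) (isIrr_apply_one_ne_zero ψ.2) h1

theorem twist (hι : Function.Injective ι) (hκ : Function.Injective κ) {χ : H → ℂ} (hχ : IsIrrCharacter H χ)
    {ψ ψ' : X → ℂ} (hψ : IsIrrCharacter X ψ) (hψ' : IsIrrCharacter X ψ') (ha : Nv ι fun n => conj (χ (κ n)))
    (hb : Nv κ fun n => conj (ψ (ι n))) (hab : ∀ x y : X, x * y * x⁻¹ * y⁻¹ ∈ ι.range)
    (h : ∑ n, conj (χ (κ n)) * ψ (ι n) ≠ 0) (h' : ∑ n, conj (χ (κ n)) * ψ' (ι n) ≠ 0) :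
    ∃ l : X →* ℂˣ, (∀ n, l (ι n) = 1) ∧ ∀ g, ψ' g = l g * ψ g := by
  classical
  have h1 : ∀ m, (∑ n, conj (χ (κ n)) * ψ (ι n)) * conj (χ 1) * conj (ψ (ι m)) =
      conj (∑ n, conj (ψ (ι n)) * χ (κ n)) * ψ 1 * conj (χ (κ m)) := fun m => by
    have h2 := cv_irr hι ha hψ (ι m)⁻¹
    have h3 := congrArg conj (cv_irr hκ hb hχ (κ m))
    have h4 : conj (∑ n, conj (ψ (ι n)) * χ (κ m * κ n)) = ∑ n, conj (χ (κ n)) * ψ ((ι m)⁻¹ * ι n) := by
      rw [map_sum]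
      refine Fintype.sum_equiv (Equiv.mulLeft m) _ _ fun n => ?_
      rw [Equiv.coe_mulLeft, map_mul ι, inv_mul_cancel_left, map_mul κ, map_mul, Complex.conj_conj, mul_comm]
    rw [map_mul, map_mul, h4] at h3
    rw [isCharacter_apply_inv (isIrr_isCharacter hψ)] at h2
    linear_combination (ψ 1) * h3 - conj (χ 1) * h2
  have h2 : conj (∑ n, conj (ψ (ι n)) * χ (κ n)) ≠ 0 := by
    rw [map_sum]
    simpa only [map_mul, Complex.conj_conj, mul_comm] using h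
  have h3 : ∑ n, conj (ψ (ι n)) * ψ' (ι n) ≠ 0 := fun e => by
    have h4 := congrArg ((∑ n, conj (χ (κ n)) * ψ (ι n)) * conj (χ 1) * ·) e
    simp only [Finset.mul_sum, ← mul_assoc, h1, mul_zero] at h4
    simp only [mul_assoc, ← Finset.mul_sum] at h4
    exact mul_ne_zero h2 (mul_ne_zero (isIrr_apply_one_ne_zero hψ) h') h4
  have : ι.range.Normal := ⟨fun _ ⟨n, e⟩ x => (ha x n).elim fun n' h => ⟨n', e ▸ h.1⟩⟩
  have := Fintype.ofFinite ι.range
  obtain ⟨Λ, h4, -, h5, h6⟩ := exists_linear_dual ι.range hab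
  have h7 : classInner (fun n : ι.range => ψ n) (fun n : ι.range => ψ' n) ≠ 0 := fun e => h3 (by
    rw [← classInner_conj_symm, map_eq_zero, classInner_def, mul_eq_zero] at e
    rw [← e.resolve_left (inv_ne_zero card_ne_zero_complex)]
    exact Fintype.sum_equiv (MonoidHom.ofInjective hι).toEquiv _ _ fun n => mul_comm _ _)
  rw [KZ.DGen.inner_res _ _ Λ h5 h6] at h7
  obtain ⟨l, hl, h8⟩ := Finset.exists_ne_zero_of_sum_ne_zero h7
  refine ⟨l, fun n => (h4 l).1 hl _ ⟨n, rfl⟩, fun g => ?_⟩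
  by_contra h9
  exact h8 (classInner_irr_ne (isIrr_linear_mul l hψ) hψ' fun e => h9 (congrFun e g).symm)

end Chr

section Cnt

variable {Γ : Type} [Group Γ] {F : MulAut Γ} {G L N : Subgroup Γ} {V : Set Γ}

theorem cnt_conv [Fintype N] {σ : Γ →* Γ} {a : Γ → ℂ} {g t : Γ}
    (hx : ∀ x ∈ G, x⁻¹ * F x ∈ V → (∀ n, n ∈ N ↔ x⁻¹ * n * x ∈ N) ∧ ∀ n ∈ N, a (x⁻¹ * n * x) = a n)
    (h1 : ∀ n ∈ N, (pts F.toMonoidHom σ G V (g * n) t).Finite)
    (h2 : ∀ n ∈ N, (pts F.toMonoidHom σ G V g (t * n⁻¹)).Finite) :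
    ∑ n : N, a n * cnt F.toMonoidHom σ G V (g * n) t = ∑ n : N, a n * cnt F.toMonoidHom σ G V g (t * (n : Γ)⁻¹) := by
  have := fun n : N => (h1 n n.2).fintype
  have := fun n : N => (h2 n n.2).fintype
  have h3 : ∀ (P : N → Set Γ) [∀ n, Fintype (P n)], ∑ n : N, a n * (Nat.card (P n) : ℂ) = ∑ z : Σ n, P n, a z.1 :=
    fun P _ => by
      rw [Fintype.sum_sigma]
      exact Finset.sum_congr rfl fun n _ => by
        show _ = ∑ _y : P n, a n
        rw [Finset.sum_const, Finset.card_univ, nsmul_eq_mul, Nat.card_eq_fintype_card, mul_comm]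
  refine (h3 _).trans (Eq.trans ?_ (h3 _).symm)
  refine Fintype.sum_equiv ⟨fun z => ⟨⟨(z.2 : Γ)⁻¹ * z.1 * z.2, ((hx _ z.2.2.1 z.2.2.2.1).1 _).1 z.1.2⟩,
      z.2, z.2.2.1, z.2.2.2.1, z.2.2.2.2.trans (by group)⟩,
    fun z => ⟨⟨(z.2 : Γ) * z.1 * (z.2 : Γ)⁻¹, ((hx _ z.2.2.1 z.2.2.2.1).1 _).2 (by simp [mul_assoc])⟩,
      z.2, z.2.2.1, z.2.2.2.1, z.2.2.2.2.trans (by group)⟩, fun z => ?_, fun z => ?_⟩ _ _
    fun z => ((hx _ z.2.2.1 z.2.2.2.1).2 _ z.1.2).symm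
  · exact Sigma.subtype_ext (Subtype.ext (by group)) rfl
  · exact Sigma.subtype_ext (Subtype.ext (by group)) rfl

theorem ind_conv [Fintype N] [Fintype L] (hfin : ∀ n, 0 < n → {y | (F ^ n) y = y}.Finite) (hL : ∀ l ∈ L, F l = l)
    (hN : N ≤ L) {a : Γ → ℂ} {g : Γ}
    (hx : ∀ x ∈ G, x⁻¹ * F x ∈ V → (∀ n, n ∈ N ↔ x⁻¹ * n * x ∈ N) ∧ ∀ n ∈ N, a (x⁻¹ * n * x) = a n) {d : ℕ} (hd : 0 < d)
    (hE : ∀ n ∈ N, ∀ t ∈ L, ExpC fun m => cntF F G V (g * n) t (d * m)) (f : Γ → ℂ) :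
    ∑ n : N, a n * CF.ind F G L V f (g * n) = CF.ind F G L V (fun t => ∑ n : N, a n * f (t * n)) g := by
  have hE' : ∀ t ∈ L, ExpC fun m => cntF F G V g t (d * m) := fun t ht => by simpa using hE 1 (one_mem _) t ht
  have h1 : ∀ t ∈ L, ∑ n : N, a n * lam F G V (g * n) t = ∑ n : N, a n * lam F G V g (t * (n : Γ)⁻¹) := fun t ht => by
    have h2 : ∀ n : N, t * (n : Γ)⁻¹ ∈ L := fun n => mul_mem ht (inv_mem (hN n.2))
    simp only [fun n : N => lam_eq hd (hE n n.2 t ht), fun n : N => lam_eq hd (hE' _ (h2 n)),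
      fun n : N => (lef_smul (hE n n.2 t ht) (a n)).symm, fun n : N => (lef_smul (hE' _ (h2 n)) (a n)).symm]
    rw [← lef_sum _ fun (n : N) _ => (hE n n.2 t ht).smul _, ← lef_sum _ fun (n : N) _ => (hE' _ (h2 n)).smul _]
    exact lef_congr fun m hm => cnt_conv hx
      (fun _ _ => finite_ptsF hfin (hL t ht) (isOfFinOrder_of_fix hfin (hL t ht)) (mul_pos hd hm))
      fun n hn => finite_ptsF hfin (hL _ (h2 ⟨n, hn⟩)) (isOfFinOrder_of_fix hfin (hL _ (h2 ⟨n, hn⟩))) (mul_pos hd hm)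
  simp only [ind_apply', mul_left_comm (a _), ← Finset.mul_sum]
  congr 1
  simp only [Finset.mul_sum, ← mul_assoc]
  rw [Finset.sum_comm]
  simp only [← Finset.sum_mul, fun t : L => h1 t t.2]
  simp only [Finset.sum_mul]
  rw [Finset.sum_comm, Finset.sum_comm (f := fun (t : L) (n : N) => lam F G V g t * a n * f (t * n))]
  refine Finset.sum_congr rfl fun n _ => (Fintype.sum_equiv (Equiv.mulRight (⟨n, hN n.2⟩ : L)) _ _ fun t => ?_).symm
  rw [Equiv.coe_mulRight, Subgroup.coe_mul, mul_inv_cancel_right, mul_comm (a n)]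

theorem glef_smul {S : ℕ → ℂ} {z : ℂ} (hz : z ≠ 0) : glef (fun m => z * S m) = z * glef S := by
  by_cases h0 : ∃ d, 0 < d ∧ ExpC fun m => S (d * m)
  · obtain ⟨d, hd, h1⟩ := h0
    rw [glef_eq hd h1, glef_eq hd (h1.smul z), lef_smul h1]
  · rw [glef, glef, dif_neg h0, dif_neg fun ⟨d, hd, h1⟩ =>
      h0 ⟨d, hd, (h1.smul z⁻¹).congr fun _ _ => inv_mul_cancel_left₀ hz _⟩, mul_zero]

variable {K C T : Subgroup Γ} {U : Subgroup Γ} (hC : C ≤ K) (hT : T ≤ K) (hF : ∀ t ∈ T, F t = t)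
  (hFC : ∀ c ∈ C, F c ∈ C) (hc : ∀ s ∈ T, ∀ t ∈ T, s * t = t * s) (hU : ∀ t ∈ T, ∀ u ∈ U, t * u * t⁻¹ ∈ U)
  (hdec : ∀ x ∈ K, x⁻¹ * F x ∈ U → ∃ t ∈ T, x * t⁻¹ ∈ C)
include hC hT hF hFC hc hU hdec

theorem cnt_res (m : ℕ) {n t : Γ} (ht : t ∈ T) :
    cntF F K U n t m * Nat.card ↥(T ⊓ C) = cntF F C U n t m * Nat.card T ∨ t ∉ C ∧ (n ∈ C → cntF F K U n t m = 0) := by
  have hσ : ∀ s ∈ T, (F ^ m) s = s := fun s hs => pow_apply_of_fixed (hF s hs) m
  have key : ∀ {x s : Γ}, s ∈ T → x⁻¹ * F x ∈ U → (F ^ m) x = n * x * t⁻¹ →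
      (x * s)⁻¹ * F (x * s) ∈ U ∧ (F ^ m) (x * s) = n * (x * s) * t⁻¹ := fun {x s} hs h1 h2 =>
    ⟨by
      have h3 := hU _ (inv_mem hs) _ h1
      rw [map_mul, hF s hs]
      convert h3 using 1
      group, by rw [map_mul, h2, hσ s hs, mul_assoc, hc _ (inv_mem ht) _ hs]; group⟩
  by_cases htC : t ∈ C
  · left
    choose r hr hr' using fun x : pts F.toMonoidHom (F ^ m).toMonoidHom K U n t => hdec x x.2.1 x.2.2.1
    rw [cntF, cntF, CF.cnt, CF.cnt, ← Nat.cast_mul, ← Nat.cast_mul, ← Nat.card_prod, ← Nat.card_prod]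
    refine congrArg _ (Nat.card_congr ⟨fun z => (⟨z.1 * ((r z.1)⁻¹ * (z.2 : Γ)⁻¹),
        mul_assoc (z.1 : Γ) _ _ ▸ C.mul_mem (hr' _) (C.inv_mem z.2.2.2),
        key (T.mul_mem (inv_mem (hr _)) (T.inv_mem z.2.2.1)) z.1.2.2.1 z.1.2.2.2⟩, ⟨z.2 * r z.1, T.mul_mem z.2.2.1 (hr _)⟩),
      fun z => (⟨z.1 * z.2, mul_mem (hC z.1.2.1) (hT z.2.2), key z.2.2 z.1.2.2.1 z.1.2.2.2⟩,
        ⟨z.2 * (r ⟨z.1 * z.2, mul_mem (hC z.1.2.1) (hT z.2.2), key z.2.2 z.1.2.2.1 z.1.2.2.2⟩)⁻¹,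
          T.mul_mem z.2.2 (T.inv_mem (hr _)),
          (C.mul_mem_cancel_left z.1.2.1).1 (mul_assoc (z.1 : Γ) _ _ ▸ hr' ⟨z.1 * z.2, _⟩)⟩), fun z => ?_, fun z => ?_⟩)
    · have e : (z.1 : Γ) * ((r z.1)⁻¹ * (z.2 : Γ)⁻¹) * (z.2 * r z.1) = z.1 := by group
      refine Prod.ext (Subtype.ext e) (Subtype.ext ?_)
      simp only [e, Subtype.coe_eta, mul_inv_cancel_right]
    · exact Prod.ext (Subtype.ext (by group)) (Subtype.ext (by group))
  · refine .inr ⟨htC, fun hn => ?_⟩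
    have : IsEmpty (pts F.toMonoidHom (F ^ m).toMonoidHom K U n t) := ⟨fun x => htC (by
      obtain ⟨s, hs, h1⟩ := hdec x x.2.1 x.2.2.1
      have h2 := pow_apply_mem (S := (C : Set Γ)) hFC m h1
      rw [(key (inv_mem hs) x.2.2.1 x.2.2.2).2] at h2
      exact inv_mem_iff.1 ((C.mul_mem_cancel_left (mul_mem hn h1)).1 h2))⟩
    rw [cntF, CF.cnt, Nat.card_of_isEmpty, Nat.cast_zero]

theorem ind_res [Finite T] (f : Γ → ℂ) {n : Γ} (hn : n ∈ C) : CF.ind F K T U f n = CF.ind F C (T ⊓ C) U f n := by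
  have := Fintype.ofFinite T
  have : Finite ↥(T ⊓ C) := Finite.of_injective _ (Subgroup.inclusion_injective inf_le_left)
  have := Fintype.ofFinite ↥(T ⊓ C)
  have h1 : (Nat.card T : ℂ) ≠ 0 := card_ne_zero_complex
  have h2 : (Nat.card ↥(T ⊓ C) : ℂ) ≠ 0 := card_ne_zero_complex
  rw [ind_apply', ind_apply', Finset.mul_sum, Finset.mul_sum]
  refine (Fintype.sum_of_injective _ (Subgroup.inclusion_injective inf_le_left) _ _ (fun t ht => ?_) fun t => ?_).symm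
  · have h3 : (t : Γ) ∉ C := fun h => ht ⟨⟨t, t.2, h⟩, rfl⟩
    rw [lam, show cntF F K U n t = fun _ => 0 from funext fun m => by
      by_cases h4 : cntF F K U n t m = 0
      · exact h4
      rcases cnt_res hC hT hF hFC hc hU hdec m (n := n) t.2 with h | h
      · rw [show cntF F C U n t m = 0 by
          have : IsEmpty (pts F.toMonoidHom (F ^ m).toMonoidHom C U n t) := ⟨fun x => h3 (by
            have h5 := pow_apply_mem (S := (C : Set Γ)) hFC m x.2.1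
            rw [show (F ^ m) (x : Γ) = _ from x.2.2.2] at h5
            exact inv_mem_iff.1 ((C.mul_mem_cancel_left (mul_mem hn x.2.1)).1 h5))⟩
          rw [cntF, CF.cnt, Nat.card_of_isEmpty, Nat.cast_zero], zero_mul] at h
        exact (mul_eq_zero.1 h).resolve_right h2
      · exact h.2 hn, glef_const, zero_mul, mul_zero]
  · rw [← mul_assoc, ← mul_assoc, lam, lam, ← glef_smul (inv_ne_zero h1), ← glef_smul (inv_ne_zero h2)]
    refine congrArg₂ _ (congrArg glef (funext fun m => ?_)) rfl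
    have h := (cnt_res hC hT hF hFC hc hU hdec m (n := n) t.2.1).resolve_right fun h => h.1 t.2.2
    rw [Subgroup.coe_inclusion]
    field_simp
    exact h.symm.trans (mul_comm _ _)

end Cnt

end Cfsg.Agent.HZ.L.Cr
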