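import Cfsg.Agent.HZ.L.Cr.Grp
import Cfsg.Agent.HZ.L.Cr.Abs

/-!
# HZ/L/Cr: restriction to the first factor, the box `boxCr` (helper88)
-/

set_option autoImplicit false
set_option linter.unusedSectionVars false

namespace Cfsg.Agent.HZ.L.Cr.Grp

open Cfsg Cfsg.Agent.DL Cfsg.Agent.DL.PP Cfsg.Agent.DL.Uni Cfsg.Agent.DL.Asm Cfsg.Agent.Nodes.Reps Matrix
  Cfsg.Agent.KZ.Lie Cfsg.Agent.Nodes.BNOf Cfsg.Agent.Characters.Core Cfsg.Agent.DL.Mk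
open scoped ComplexConjugate

variable {p : ℕ} [Fact p.Prime] {k : Type} [Field k] [CharP k p] [IsAlgClosed k] {Y : Type} [Group Y] {N : Type}
  [Fintype N] [DecidableEq N] {ρ : Y →* GL N k} {F : MulAut Y} {G : Subgroup Y} {D : Datum p ρ F G}
  {A₁ A₂ : Set (D.I → ℤ)} {x y y' z n : Y} {lam v : D.R → ℤ} {θ : Y → ℂ} {c c' : Lbl D}

theorem nrm_mem' {C : Subgroup Y} (hC : ∀ c ∈ C, F c ∈ C) (hx : x ∈ C) (d : ℕ) : nrm F d x ∈ C := by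
  induction d with
  | zero => exact one_mem _
  | succ d ih => exact nrm_succ F d x ▸ mul_mem ih (CF.pow_apply_mem (S := (C : Set Y)) hC d hx)

theorem exists_ext {K L : Subgroup Y} [Finite ↥L] (hc : ∀ a ∈ L, ∀ b ∈ L, a * b = b * a) (h : K ≤ L) (hθ : IsLin K θ) :
    ∃ θ', IsLin L θ' ∧ ∀ x ∈ K, θ' x = θ x := by
  let _ : CommGroup L := { (inferInstance : Group L) with mul_comm := fun a b => Subtype.ext (hc a a.2 b b.2) }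
  have : NeZero (Monoid.exponent ↥L) := ⟨Monoid.exponent_ne_zero_of_finite⟩
  obtain ⟨μ, h1⟩ := MonoidHom.domRestrict_surjective ℂ (K.subgroupOf L)
    (hθ.hom.comp (Subgroup.subgroupOfEquivOfLe h).toMonoidHom)
  exact ⟨lin μ, isLin_lin μ, fun x hx => (lin_apply μ (h hx)).trans
    (congrArg Units.val (DFunLike.congr_fun h1 ⟨⟨x, h hx⟩, hx⟩))⟩

namespace Sp

variable (h : Sp D A₁ A₂)
include h

theorem pt_dec' (hx : x ∈ D.S A₁) (hN : x⁻¹ * F x ∈ D.NN) (hz : z ∈ D.T ⊔ D.S A₁) (h1 : z⁻¹ * F z ∈ D.S A₁) :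
    ∃ t ∈ cj x D.T, F t = t ∧ z * t⁻¹ ∈ Cc D A₁ A₂ := by
  have h2 := D.S_le_G h.r₁ hx
  obtain ⟨c, hc, t, ht, e, rfl⟩ := (h.conj h2 hN).pt_dec (x := z) (by
    rwa [D.conj_S, D.conj_T, ← cj_sup, cj_eq_of_mem (Subgroup.mem_sup_right hx)]) (by rwa [h.conj_S₁])
  exact ⟨t, ht, e, by rwa [mul_inv_cancel_right, ← h.conj_C h2 hN]⟩

theorem mem_cj_iff (hx : x ∈ G) (hy : y ∈ D.S A₂) (hn : n ∈ Cc D A₁ A₂) : n ∈ cj x (cj y D.T) ↔ n ∈ cj x D.T := by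
  have h1 := h.C_comm (h.norm_C (inv_mem hx) hn) (inv_mem hy)
  simp only [inv_inv] at h1
  rw [mem_cj, mem_cj, mem_cj, h1]

theorem τ_mem_C (hv : ∀ a ∈ A₂, D.wt a ⬝ᵥ v = 0) (ζ : kˣ) : D.τ (coch v ζ) ∈ Cc D A₁ A₂ :=
  ⟨Subgroup.mem_sup_left (D.τ_mem _), h.τ_cen hv ζ⟩

variable (hl : ∀ a, D.Rt a → (D.wt a ⬝ᵥ lam = 0 ↔ a ∈ A₁)) (hy : y ∈ D.S A₂) (hF : y⁻¹ * F y ∈ D.NN)
  (hy' : y' ∈ D.S A₂) (hF' : y'⁻¹ * F y' ∈ D.NN) (f : Fr D)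

theorem GF_le : GF F (Cc D A₁ A₂) ≤ GF F (h.sb hl hy hF).K := fun _ hn => ⟨h.C_le_K hl hy hF hn.1, hn.2⟩

theorem exists_x (u : (h.sb hl hy hF).E.W) : ∃ x ∈ D.S A₁, D.Rp ((h.sb hl hy hF).sw u) (x⁻¹ * F x) :=
  h.symm.exists_y (h.sw_mem hl hy hF u)

theorem S_le_K : D.S A₁ ≤ (h.sb hl hy hF).K := h.S_le_C.trans (h.C_le_K hl hy hF)

theorem rp_x {u : (h.sb hl hy hF).E.W} (hx : x ∈ D.S A₁) (h1 : D.Rp ((h.sb hl hy hF).sw u) (x⁻¹ * F x)) :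
    (h.sb hl hy hF).E.Rp u (x⁻¹ * F x) := h.rp_to hl hy hF (mul_mem (inv_mem hx) (h.F_S hx)) h1

theorem rw_res {u : (h.sb hl hy hF).E.W} (hx : x ∈ D.S A₁) (h1 : D.Rp ((h.sb hl hy hF).sw u) (x⁻¹ * F x))
    (h2 : Lab (h.sb hl hy hF).E f.d f.ζ x θ c) (hn : n ∈ GF F (Cc D A₁ A₂)) :
    RW ((h.sb hl hy hF).fr f) u c ⟨n, h.GF_le hl hy hF hn⟩ =
      CF.ind F (Cc D A₁ A₂) (cj x D.T ⊓ GF F (Cc D A₁ A₂)) (cj x (D.S (RGD.Pos D.cs D.h ∩ A₁))) θ n := by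
  have h3 := h.rp_x hl hy hF hx h1
  have h4 := h.S_le_K hl hy hF hx
  have := finite_inf_GF (h.sb hl hy hF).E (cj x (h.sb hl hy hF).E.T)
  rw [← R_eq_RW ((h.sb hl hy hF).fr f) h4 h3 h2, R_eq' ⟨x, h4, rfl, rfl, ((h.sb hl hy hF).E.stable_iff h4).2 ⟨u, h3⟩⟩ θ _
    (h.GF_le hl hy hF hn), RV,
    ind_res (T := cj x (h.sb hl hy hF).E.T ⊓ GF F (h.sb hl hy hF).K) (h.C_le_K hl hy hF) (fun _ ht => ht.2.1) (fun _ ht => ht.2.2) (fun _ => h.F_C)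
    (fun _ hs _ ht => ((h.sb hl hy hF).E.conj h4 ⟨u, h3⟩).T_comm hs.1 ht.1) (fun t ht w hw => ?_) (fun z hz e => ?_) θ hn.1,
    h.sb_U]
  · rw [show cj x (h.sb hl hy hF).E.T ⊓ GF F (h.sb hl hy hF).K ⊓ Cc D A₁ A₂ = cj x D.T ⊓ GF F (Cc D A₁ A₂) from
      Subgroup.ext fun t => ⟨fun e => ⟨(h.mem_cj_iff (D.S_le_G h.r₁ hx) hy e.2).1 e.1.1, e.2, e.1.2.2⟩,
      fun e => ⟨⟨(h.mem_cj_iff (D.S_le_G h.r₁ hx) hy e.2.1).2 e.1, h.GF_le hl hy hF e.2⟩, e.2.1⟩⟩]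
  · rw [← (h.sb hl hy hF).E.conj_U h4 ⟨u, h3⟩] at hw ⊢
    exact ((h.sb hl hy hF).E.conj h4 ⟨u, h3⟩).conj_mem_U_of_T ht.1 hw
  · have h6 := D.S_le_G h.r₂ hy
    rw [h.sb_U, mem_cj] at e
    have h7 : z⁻¹ * F z ∈ D.S A₁ := by
      simpa [mul_assoc] using mul_mem (mul_mem hx (RGD.Sup_mono Set.inter_subset_right e)) (inv_mem hx)
    obtain ⟨t, h8, h9, h10⟩ := (h.conj h6 hF).pt_dec' (x := x) (z := z) (by rwa [h.conj_S₁])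
      ⟨_, (D.conj h6 hF).rp_of_sub (h.sb hl hy hF).hZ (h.sb hl hy hF).hg rfl h3⟩ (h.sb_K hl hy hF ▸ hz) (by rwa [h.conj_S₁])
    exact ⟨t, ⟨h8, ((h.sb hl hy hF).E.conj h4 ⟨u, h3⟩).T_le_G h8, h9⟩, h.conj_C h6 hF ▸ h10⟩

theorem lab_perp (h2 : Lab (h.sb hl hy hF).E f.d f.ζ x θ c) (hv : ∀ a ∈ A₂, D.wt a ⬝ᵥ v = 0) :
    θ (nrm F f.d (x * D.τ (coch v f.ζ) * x⁻¹)) = chr v c := by
  rw [← h.C_comm (h.τ_mem_C hv f.ζ) hy]
  exact h2 v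

theorem nrm_perp {u : (h.sb hl hy hF).E.W} (hx : x ∈ D.S A₁) (h1 : D.Rp ((h.sb hl hy hF).sw u) (x⁻¹ * F x))
    (hv : ∀ a ∈ A₂, D.wt a ⬝ᵥ v = 0) : nrm F f.d (x * D.τ (coch v f.ζ) * x⁻¹) ∈ cj x D.T ⊓ GF F (Cc D A₁ A₂) :=
  have h2 := nrm_mem' (fun _ => h.F_C) (h.norm_C (D.S_le_G h.r₁ hx) (h.τ_mem_C hv f.ζ)) f.d
  have h3 := nrm_mem ((h.sb hl hy hF).fr f).L f.hζ (h.S_le_K hl hy hF hx) (h.rp_x hl hy hF hx h1) v
  have h4 : nrm F f.d (x * D.τ (coch v f.ζ) * x⁻¹) ∈ cj x (cj y D.T) ⊓ GF F (h.sb hl hy hF).K := by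
    rw [← h.C_comm (h.τ_mem_C hv f.ζ) hy]
    exact h3
  ⟨(h.mem_cj_iff (D.S_le_G h.r₁ hx) hy h2).1 h4.1, h2, h4.2.2⟩

/-- **the restriction to `C ^ F` depends only on the label on the central cocharacters of the second factor** -/
theorem res {u : (h.sb hl hy hF).E.W} {u' : (h.sb hl hy' hF').E.W} (e : (h.sb hl hy' hF').sw u' = (h.sb hl hy hF).sw u)
    (hc : Fx (h.sb hl hy hF).E u c) : ∃ c' : Lbl D, (∀ v, (∀ a ∈ A₂, D.wt a ⬝ᵥ v = 0) → chr v c' = chr v c) ∧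
      ∀ n (hn : n ∈ GF F (Cc D A₁ A₂)), RW ((h.sb hl hy' hF').fr f) u' c' ⟨n, h.GF_le hl hy' hF' hn⟩ =
        RW ((h.sb hl hy hF).fr f) u c ⟨n, h.GF_le hl hy hF hn⟩ := by
  obtain ⟨x, hx, h1⟩ := h.exists_x hl hy hF u
  have h1' := e ▸ h1
  have hG := D.S_le_G h.r₁ hx
  obtain ⟨θ, h2, h3⟩ := exists_theta ((h.sb hl hy hF).fr f).L f.hζ (h.S_le_K hl hy hF hx) (h.rp_x hl hy hF hx h1) hc
  have := finite_inf_GF (h.sb hl hy' hF').E (cj x (h.sb hl hy' hF').E.T)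
  obtain ⟨θ', h4, h5⟩ := exists_ext (K := cj x D.T ⊓ GF F (Cc D A₁ A₂))
    (L := cj x (h.sb hl hy' hF').E.T ⊓ GF F (h.sb hl hy' hF').K)
    (fun _ hs _ ht => ((h.sb hl hy' hF').E.conj (h.S_le_K hl hy' hF' hx) ⟨u', h.rp_x hl hy' hF' hx h1'⟩).T_comm hs.1 ht.1)
    (fun t e => ⟨(h.mem_cj_iff hG hy' e.2.1).2 e.1, h.GF_le hl hy' hF' e.2⟩)
    (h2.mono fun t e => ⟨(h.mem_cj_iff hG hy e.2.1).2 e.1, h.GF_le hl hy hF e.2⟩)
  obtain ⟨c', h6⟩ := exists_lab ((h.sb hl hy' hF').fr f).L f.hζ (h.S_le_K hl hy' hF' hx) (h.rp_x hl hy' hF' hx h1') h4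
  refine ⟨c', fun v hv => Units.ext ?_, fun n hn => ?_⟩
  · rw [← h.lab_perp hl hy hF f h3 hv, ← h.lab_perp hl hy' hF' f h6 hv, h5 _ (h.nrm_perp hl hy hF f hx h1 hv)]
  · rw [h.rw_res hl hy hF f hx h1 h3 hn, h.rw_res hl hy' hF' f hx h1' h6 hn, CF.ind_congr h5]

variable [Fintype ↥(GF F (h.sb hl hy hF).K)]

/-- linear characters which are trivial on `C ^ F` -/
theorem lin_has {ψ ψ' : GF F (h.sb hl hy hF).K → ℂ} (l : GF F (h.sb hl hy hF).K →* ℂˣ)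
    (h0 : ∀ n (hn : n ∈ GF F (Cc D A₁ A₂)), l ⟨n, h.GF_le hl hy hF hn⟩ = 1) (e : ∀ g, ψ' g = l g * ψ g)
    {u : (h.sb hl hy hF).E.W} (hc : Has ((h.sb hl hy hF).fr f) ψ' u c) :
    ∃ c' : Lbl D, (∀ v, (∀ a ∈ A₂, D.wt a ⬝ᵥ v = 0) → chr v c' = chr v c) ∧ Has ((h.sb hl hy hF).fr f) ψ u c' := by
  obtain ⟨x, hx, h1⟩ := h.exists_x hl hy hF u
  have hK := h.S_le_K hl hy hF hx
  have hr := h.rp_x hl hy hF hx h1
  have h6 := D.S_le_G h.r₂ hy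
  obtain ⟨θ, h2, h3⟩ := exists_theta ((h.sb hl hy hF).fr f).L f.hζ hK hr hc.fx
  obtain ⟨c', h4⟩ := exists_lab ((h.sb hl hy hF).fr f).L f.hζ hK hr (((isLin_lin l⁻¹).mono inf_le_right).mul' h2)
  obtain ⟨d, e', H⟩ := (D.conj h6 hF).exists_split'
  have h7 : 1 < p ^ e' := Nat.one_lt_pow H.e_pos.ne' (Fact.out : p.Prime).one_lt
  have h5 : PConst p (GF F (h.sb hl hy hF).K) (lin l⁻¹) := by
    refine KZ.Levi.pconst_of_lin (isLin_lin _) (KZ.Levi.lin_uni (isLin_lin _) (n := p ^ e' - 1) (fun h8 => ?_) fun z hz => ?_)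
    · have h9 := Nat.dvd_sub (dvd_pow_self p H.e_pos.ne') h8
      rw [Nat.sub_sub_self h7.le] at h9
      exact (Fact.out : p.Prime).not_dvd_one h9
    · obtain ⟨a, ha, t, ht, h8, rfl⟩ := (h.conj h6 hF).pt_dec (x := z) (h.sb_K hl hy hF ▸ hz.1) (by
        rw [show F z = z from hz.2, inv_mul_cancel]
        exact one_mem _)
      rw [h.conj_C] at ha
      have h9 : F a = a := by
        have h9 : F (a * t) = a * t := hz.2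
        rwa [map_mul, h8, mul_left_inj] at h9
      have h10 : t ∈ GF F (h.sb hl hy hF).K := ⟨(h.sb hl hy hF).E.T_le_G ht, h8⟩
      have h11 : (⟨t, h10⟩ : GF F (h.sb hl hy hF).K) ^ (p ^ e' - 1) = 1 := Subtype.ext (mul_right_cancel (b := t) (by
        rw [Subgroup.coe_pow, ← pow_succ, Nat.sub_add_cancel h7.le, ← H.T ht, CF.pow_apply_of_fixed h8]
        exact (one_mul t).symm))
      rw [(isLin_lin _).mul a (h.GF_le hl hy hF ⟨ha, h9⟩) t h10, lin_apply _ (h.GF_le hl hy hF ⟨ha, h9⟩), lin_apply _ h10,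
        MonoidHom.inv_apply, h0 a ⟨ha, h9⟩, inv_one, Units.val_one, one_mul, ← Units.val_pow_eq_pow_val, ← map_pow, h11,
        map_one, Units.val_one]
  refine ⟨c', fun v hv => Units.ext ?_, fun h8 => hc ?_⟩
  · have h8 := h.nrm_perp hl hy hF f hx h1 hv
    rw [← h.lab_perp hl hy hF f h3 hv, ← h.lab_perp hl hy hF f h4 hv, Pi.mul_apply, lin_apply _ (h.GF_le hl hy hF h8.2),
      MonoidHom.inv_apply, h0 _ h8.2, inv_one, Units.val_one, one_mul]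
  · rw [← h8, classInner_def, classInner_def]
    refine congrArg _ (Finset.sum_congr rfl fun g _ => ?_)
    rw [← R_eq_RW ((h.sb hl hy hF).fr f) hK hr h3, ← R_eq_RW ((h.sb hl hy hF).fr f) hK hr h4,
      (sys' (h.sb hl hy hF).E).pconst _ (mem_tori hK hr) _ _ h5 g g.2, lin_coe, map_mul, conj_hom, e,
      MonoidHom.inv_apply, inv_inv]
    ring

variable [Fintype ↥(GF F G)] [Fintype ↥(GF F (Cc D A₁ A₂))] {χ : GF F G → ℂ}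

omit f in
/-- the inclusion in the finite group -/
def κ : GF F (Cc D A₁ A₂) →* GF F G := Subgroup.inclusion fun _ hn => ⟨h.C_le hn.1, hn.2⟩

omit f in
/-- the inclusion in the finite Levi subgroup -/
noncomputable def ι : GF F (Cc D A₁ A₂) →* GF F (h.sb hl hy hF).K := Subgroup.inclusion (h.GF_le hl hy hF)

theorem cj_mem {g : Y} (hg : g ∈ GF F G) (hn : n ∈ GF F (Cc D A₁ A₂)) : g * n * g⁻¹ ∈ GF F (Cc D A₁ A₂) :=
  ⟨h.norm_C hg.1 hn.1, (mul_mem (mul_mem hg (h.κ ⟨n, hn⟩).2) (inv_mem hg)).2⟩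

theorem nv_κ (hχ : IsClassFunction _ χ) : Nv h.κ fun n => conj (χ (h.κ n)) := fun g n =>
  ⟨⟨_, h.cj_mem g.2 n.2⟩, rfl, congrArg conj (hχ (h.κ n) g)⟩

theorem nv_ι (hχ : IsClassFunction _ χ) : Nv (h.ι hl hy hF) fun n => conj (χ (h.κ n)) := fun g n =>
  ⟨⟨_, h.cj_mem ((h.sb hl hy hF).le g.2) n.2⟩, rfl, congrArg conj (hχ (h.κ n) ((h.sb hl hy hF).ι g))⟩

theorem nv_κ' {ψ : GF F (h.sb hl hy hF).K → ℂ} (hψ : IsClassFunction _ ψ) :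
    Nv h.κ fun n => conj (ψ (h.ι hl hy hF n)) := fun g n => by
  obtain ⟨x, hx, e⟩ := h.sb_act hl hy hF g.2
  exact ⟨⟨_, h.cj_mem g.2 n.2⟩, rfl, congrArg conj ((congrArg ψ (Subtype.ext (e n n.2.1))).trans
    (hψ (h.ι hl hy hF n) ⟨x, hx⟩))⟩

/-- the labels of the characters of the Levi subgroup which meet `χ` -/
def Lm (χ : GF F G → ℂ) (c : Lbl D) : Prop := ∃ ψ u, IsIrrCharacter _ ψ ∧ Has ((h.sb hl hy hF).fr f) ψ u c ∧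
  ∑ n, conj (χ (h.κ n)) * ψ (h.ι hl hy hF n) ≠ 0

/-- **P1** -/
theorem lm_of_has (hχ : IsIrrCharacter _ χ) {u : (h.sb hl hy hF).E.W}
    (hc : Has f χ ((h.sb hl hy hF).sw u * (h.sb hl hy hF).w) c) : h.Lm hl hy hF f χ c := by
  obtain ⟨x, hx, h1⟩ := h.exists_x hl hy hF u
  have hK := h.S_le_K hl hy hF hx
  have hr := h.rp_x hl hy hF hx h1
  have h6 := D.S_le_G h.r₂ hy
  have hcl := isIrr_isClassFunction hχ
  obtain ⟨θ, -, h3⟩ := exists_theta ((h.sb hl hy hF).fr f).L f.hζ hK hr ((h.sb hl hy hF).fx_iff.2 hc.fx)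
  have h4 : D.Rp ((h.sb hl hy hF).sw u * (h.sb hl hy hF).w) ((x * y)⁻¹ * F (x * y)) := by
    rw [show (x * y)⁻¹ * F (x * y) = x⁻¹ * F x * (y⁻¹ * F y) by
      rw [← mul_assoc _ y⁻¹, h.comm (mul_mem (inv_mem hx) (h.F_S hx)) (inv_mem hy), map_mul]
      group]
    exact h1.mul (D.rp_pr hF)
  have h5 : ∀ g : GF F G, RW f ((h.sb hl hy hF).sw u * (h.sb hl hy hF).w) c g =
      KZ.Levi.RL (D.conj h6 hF) (RL.lf _ lam) lam (R (h.sb hl hy hF).E (cj x (h.sb hl hy hF).E.T) θ) g := fun g => by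
    rw [← R_eq_RW f (mul_mem (D.S_le_G h.r₁ hx) h6) h4 ((ApiE.lab_conj h6 hF).1 h3),
      ← R_conj_datum h6 hF (mem_tori (mul_mem (D.S_le_G h.r₁ hx) h6) h4) θ g g.2, cj_mul]
    exact (KZ.Levi.RL_R (RL.lf_hl (D.conj h6 hF) lam) (h.sb hl hy hF).hg (mem_tori hK hr) θ g g.2).symm
  obtain ⟨g, hg⟩ := cv_ne (Subgroup.inclusion_injective _) hχ (h.nv_κ hcl) hc
  obtain ⟨d, e, H⟩ := (D.conj h6 hF).exists_split'
  have : Fintype ↥(GF F (KZ.Levi.Lc (D.conj h6 hF) lam)) := ‹Fintype ↥(GF F (h.sb hl hy hF).K)›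
  have h7 := ind_conv (G := G) (N := GF F (Cc D A₁ A₂)) (L := GF F (KZ.Levi.Lc (D.conj h6 hF) lam))
    (V := (D.conj h6 hF).S (Rad _ (RL.lf _ lam))) (a := extendByZero (GF F G) fun g => conj (χ g)) (g := g)
    (CF.fin_fix D.amb) (fun _ e => e.2) (h.GF_le hl hy hF) (fun z hz e => ?_) H.d_pos
    (fun n hn t ht => ((KZ.Levi.isInd (RL.lf_hl (D.conj h6 hF) lam) H).expI (mul_mem g.2 (h.κ ⟨n, hn⟩).2) ht).1)
    (R (h.sb hl hy hF).E (cj x (h.sb hl hy hF).E.T) θ)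
  · have h8 : ∀ n : GF F (Cc D A₁ A₂), extendByZero (GF F G) (fun g => conj (χ g)) n = conj (χ (h.κ n)) :=
      fun n => extendByZero_of_mem _ _ (h.κ n).2
    simp only [h8] at h7
    simp only [h5] at hg
    obtain ⟨t, ht⟩ : ∃ t : GF F (h.sb hl hy hF).K,
        ∑ n, conj (χ (h.κ n)) * RW ((h.sb hl hy hF).fr f) u c (t * h.ι hl hy hF n) ≠ 0 := by
      by_contra h9
      push Not at h9
      refine hg (h7.trans ((congrFun (CF.ind_congr (f' := 0) fun t ht => ?_) _).trans (by rw [map_zero]; rfl)))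
      simp only [← R_eq_RW ((h.sb hl hy hF).fr f) hK hr h3] at h9
      exact h9 ⟨t, ht⟩
    obtain ⟨ψ, h9, h10, h11⟩ := exists_ov (Subgroup.inclusion_injective _) (h.nv_ι hl hy hF hcl)
      (LV.Blk.gen_cls (RW_gen _ u c)) ht
    exact ⟨ψ, u, h9, h10, h11⟩
  · obtain ⟨g, hg, h8⟩ := h.pt_act hz (h.sb_Rad hl hy hF e)
    have h9 : ∀ n ∈ GF F (Cc D A₁ A₂), z⁻¹ * n * z = g⁻¹ * n * g⁻¹⁻¹ := fun n hn => by
      have h9 := h8 _ (h.cj_mem (inv_mem hg) hn).1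
      rw [show g * (g⁻¹ * n * g⁻¹⁻¹) * g⁻¹ = n by group] at h9
      rw [← h9]
      nth_rw 2 [h9]
      group
    refine ⟨fun n => ⟨fun hn => h9 n hn ▸ h.cj_mem (inv_mem hg) hn, fun hn => ?_⟩, fun n hn => ?_⟩
    · have h10 := h8 _ hn.1
      rw [show z * (z⁻¹ * n * z) * z⁻¹ = n by group] at h10
      exact h10 ▸ h.cj_mem hg hn
    · rw [h9 n hn]
      exact (extendByZero_of_mem _ _ (h.κ ⟨_, h.cj_mem (inv_mem hg) hn⟩).2).trans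
        ((congrArg conj (hcl (h.κ ⟨n, hn⟩) ⟨g, hg⟩⁻¹)).trans (extendByZero_of_mem _ (fun g => conj (χ g)) (h.κ ⟨n, hn⟩).2).symm)

theorem lm_of_sum (hχ : IsIrrCharacter _ χ) {u : (h.sb hl hy hF).E.W}
    (e : ∑ n, conj (χ (h.κ n)) * RW ((h.sb hl hy hF).fr f) u c (h.ι hl hy hF n) ≠ 0) : h.Lm hl hy hF f χ c := by
  obtain ⟨ψ, h9, h10, h11⟩ := exists_ov (ι := h.ι hl hy hF) (Subgroup.inclusion_injective _)
    (h.nv_ι hl hy hF (isIrr_isClassFunction hχ)) (LV.Blk.gen_cls (RW_gen ((h.sb hl hy hF).fr f) u c)) (l := 1) (by simpa only [one_mul] using e)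
  exact ⟨ψ, u, h9, h10, h11⟩

theorem exists_sum (hχ : IsIrrCharacter _ χ) : ∃ u c, Fx (h.sb hl hy hF).E u c ∧
    ∑ n, conj (χ (h.κ n)) * RW ((h.sb hl hy hF).fr f) u c (h.ι hl hy hF n) ≠ 0 := by
  have hi : Function.Injective (h.ι hl hy hF) := Subgroup.inclusion_injective _
  by_contra h0
  push Not at h0
  have h1 := val_one ((h.sb hl hy hF).fr f) (Function.extend (h.ι hl hy hF) (fun n => χ (h.κ n)) 0)
  rw [← map_one (h.ι hl hy hF), hi.extend_apply, map_one, finsum_eq_zero_of_forall_eq_zero fun u =>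
    finsum_eq_zero_of_forall_eq_zero fun c => ?_, mul_zero] at h1
  · exact isIrr_apply_one_ne_zero hχ h1
  by_cases h2 : Fx (h.sb hl hy hF).E u c
  · have h3 := congrArg conj (h0 u c h2)
    simp only [map_sum, map_mul, Complex.conj_conj, map_zero] at h3
    rw [classInner_def, ← sum_ext hi _ fun g => conj (RW ((h.sb hl hy hF).fr f) u c g), h3, mul_zero, zero_mul]
  · rw [RW_zero _ h2, Pi.zero_apply, mul_zero]

/-- all labels are labels of one character, up to the central cocharacters -/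
theorem lm_lm (hχ : IsIrrCharacter _ χ) (h1 : h.Lm hl hy hF f χ c) (h2 : h.Lm hl hy hF f χ c') :
    ∃ ψ u u', ∃ c'' : Lbl D, IsIrrCharacter _ ψ ∧ Has ((h.sb hl hy hF).fr f) ψ u c ∧ Has ((h.sb hl hy hF).fr f) ψ u' c'' ∧
      ∀ v, (∀ a ∈ A₂, D.wt a ⬝ᵥ v = 0) → chr v c'' = chr v c' := by
  obtain ⟨ψ, u, a1, a2, a3⟩ := h1
  obtain ⟨ψ', u', b1, b2, b3⟩ := h2
  obtain ⟨l, l1, l2⟩ := twist (Subgroup.inclusion_injective _) (Subgroup.inclusion_injective _) hχ a1 b1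
    (h.nv_ι hl hy hF (isIrr_isClassFunction hχ)) (h.nv_κ' hl hy hF (isIrr_isClassFunction a1))
    (fun a b => ⟨⟨_, h.sb_comm hl hy hF a.2.1 b.2.1, (a * b * a⁻¹ * b⁻¹).2.2⟩, rfl⟩) a3 b3
  obtain ⟨c'', e1, e2⟩ := h.lin_has hl hy hF f l (fun n hn => l1 ⟨n, hn⟩) l2 b2
  exact ⟨ψ, u, u', c'', a1, a2, e2, e1⟩

end Sp

theorem perp_WW {R : Type} [Fintype R] [DecidableEq R] {Ψ Ψ₁ Ψ₂ : RS R} {B A : Mat R} (hd : Dec Ψ Ψ₁ Ψ₂ B) (hA : A ∈ WW Ψ₁) :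
    ∀ v, Perp Ψ₂ v → Perp Ψ₂ (A *ᵥ v) := by
  induction hA using Submonoid.closure_induction with
  | mem x hx =>
    obtain ⟨a, ha, rfl⟩ := hx
    intro v hv b hb
    rw [rfm, sub_mulVec, one_mulVec, vecMulVec_mulVec, dotProduct_sub, hv b hb, op_smul_eq_smul, dotProduct_smul,
      (hd.orth a ha b hb).2, smul_zero, sub_zero]
  | one => exact fun v hv => by rwa [one_mulVec]
  | mul x y _ _ hx hy => exact fun v hv => by rw [← mulVec_mulVec]; exact hx _ (hy v hv)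

end Cfsg.Agent.HZ.L.Cr.Grp

namespace Cfsg.Agent.HZ.L.Cr

open Cfsg Cfsg.Agent.DL Cfsg.Agent.DL.PP Matrix Cfsg.Agent.KZ.Lie Grp

variable {p : ℕ} [Fact p.Prime] {k : Type} [Field k] [CharP k p] [IsAlgClosed k] {Y : Type} [Group Y] {N : Type}
  [Fintype N] [DecidableEq N] {ρ : Y →* GL N k} {F : MulAut Y} {G : Subgroup Y} (D : Datum p ρ F G) [Fintype ↥(GF F G)]

/-- **restriction to a factor** -/
theorem boxCr : BoxCr D := by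
  intro j B hS hE f χ hχ Ψ₁ Ψ₂ hd ⟨b, hb⟩ hx w c w' c' hc hc'
  have h := sp_of hS hd
  have e₁ : Ψ₁ ⊆ rts D := hd.union ▸ Set.subset_union_left
  have e₂ : Ψ₂ ⊆ rts D := hd.union ▸ Set.subset_union_right
  obtain ⟨lam, hl⟩ := h.exists_lam
  have := D.amb.finite_GF (Cc D (rA D Ψ₁) (rA D Ψ₂))
  have := Fintype.ofFinite ↥(GF F (Cc D (rA D Ψ₁) (rA D Ψ₂)))
  have k1 : ∀ {w c}, Has f χ w c → ∃ (y : Y) (hy : y ∈ D.S (rA D Ψ₂)) (hF : y⁻¹ * F y ∈ D.NN)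
      (_ : Fintype ↥(GF F (h.sb hl hy hF).K)), h.Lm hl hy hF f χ c := fun {w c} hc => by
    obtain ⟨u, hu, v, hv, rfl⟩ := h.W_dec w
    obtain ⟨y, hy, h1⟩ := h.exists_y hv
    obtain ⟨u, rfl⟩ := h.sw_surj hl hy ⟨v, h1⟩ hu
    have := D.amb.finite_GF (h.sb hl hy ⟨v, h1⟩).K
    have i := Fintype.ofFinite ↥(GF F (h.sb hl hy ⟨v, h1⟩).K)
    exact ⟨y, hy, ⟨v, h1⟩, i, h.lm_of_has hl hy ⟨v, h1⟩ f hχ (by rwa [show (h.sb hl hy ⟨v, h1⟩).w = v from h1.pr_eq])⟩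
  have k2 : ∀ {y : Y} (hy : y ∈ D.S (rA D Ψ₂)) (hF : y⁻¹ * F y ∈ D.NN) [Fintype ↥(GF F (h.sb hl hy hF).K)] {c c'},
      h.Lm hl hy hF f χ c → h.Lm hl hy hF f χ c' → ∃ A ∈ WW Ψ₁, ∀ v, Perp Ψ₂ v → chr (A *ᵥ v) c' = chr v c := by
    intro y hy hF _ c c' h1 h2
    obtain ⟨ψ, u, u', c'', a1, a2, a3, a4⟩ := h.lm_lm hl hy hF f hχ h1 h2
    have h3 : rts (h.sb hl hy hF).E = Ψ₁ := Set.ext fun a => (h.sb_rts hl hy hF).trans (mem_rA e₁).symm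
    obtain ⟨A, hA, h4⟩ := hE (h.sb hl hy hF).E j _ (hS.sub (h.sb_qs hl hy hF hS.qs)) (by rw [h3]; exact hx)
      ((h.sb hl hy hF).nr_lt fun e => by
        obtain ⟨a, ha, rfl⟩ := (mem_rA e₂).1 hb
        exact h.disj ⟨ha.1, h3 ▸ e.ge (rt_mem ha.1)⟩ ha) _ ψ a1 u c u' c'' a2 a3
    rw [h3] at hA
    exact ⟨A, hA, fun v hv => (a4 _ ((perp_iff e₂).1 (perp_WW hd hA v hv))).symm.trans (h4 v)⟩
  obtain ⟨y, hy, hF, _, h1⟩ := k1 hc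
  obtain ⟨y', hy', hF', _, h2⟩ := k1 hc'
  obtain ⟨u, d, h3, h4⟩ := h.exists_sum hl hy hF f hχ
  obtain ⟨u', e⟩ := h.sw_surj hl hy' hF' (h.sw_mem hl hy hF u)
  obtain ⟨d', h5, h6⟩ := h.res hl hy hF hy' hF' f e h3
  obtain ⟨A, hA, h7⟩ := k2 hy hF h1 (h.lm_of_sum hl hy hF f hχ h4)
  obtain ⟨A', hA', h8⟩ := k2 hy' hF' (h.lm_of_sum hl hy' hF' f hχ (u := u') (c := d') fun e => h4
    ((Finset.sum_congr rfl fun n _ => congrArg _ (h6 n.1 n.2).symm).trans e)) h2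
  refine ⟨A' * A, mul_mem hA' hA, fun v hv => ?_⟩
  rw [← mulVec_mulVec, h8 _ (perp_WW hd hA v hv), h5 _ ((perp_iff e₂).1 (perp_WW hd hA v hv)), h7 v hv]

end Cfsg.Agent.HZ.L.Cr
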