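import Cfsg.Agent.HZ.L.Bas
import Cfsg.Agent.KM.Si.Q

/-!
# HZ/L/Cr: the group of an orthogonal decomposition (helper88)
-/

set_option autoImplicit false
set_option linter.unusedSectionVars false

namespace Cfsg.Agent.HZ.L.Cr.Grp

open Cfsg Cfsg.Agent.DL Cfsg.Agent.DL.PP Cfsg.Agent.DL.Uni Cfsg.Agent.DL.Asm Cfsg.Agent.Nodes.Reps Matrix
  Cfsg.Agent.KZ.Lie Cfsg.Agent.Nodes.BNOf Cfsg.Agent.Tits.Roots Cfsg.Agent.Nodes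
open scoped commutatorElement

variable {p : ℕ} [Fact p.Prime] {k : Type} [Field k] [CharP k p] [IsAlgClosed k] {Y : Type} [Group Y] {N : Type}
  [Fintype N] [DecidableEq N] {ρ : Y →* GL N k} {F : MulAut Y} {G : Subgroup Y} {D : Datum p ρ F G}

theorem wt_cor {a : D.I → ℤ} (ha : D.Rt a) : D.wt a ⬝ᵥ D.cor a = 2 := (D.pair_cor ha a).trans (Coroot.cpr_self _ _ ha)

/-- Lang's theorem for a stable set of cocharacters -/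
theorem lang_P {P : AddSubgroup (D.R → ℤ)} (hP : ∀ v ∈ P, D.Mx *ᵥ v ∈ P) {v : D.R → ℤ} (hv : v ∈ P) (ω : kˣ) :
    ∃ v' ∈ P, ∃ ξ : kˣ, F (D.τ (coch v' ξ)) = D.τ (coch v' ξ) * D.τ (coch v ω) := by
  obtain ⟨d, e, L⟩ := PP.exists_lvl D
  have h1 := L.pow 1
  rw [D.Wm_one, one_mul] at h1
  have h2 : 1 < p ^ e := Nat.one_lt_pow L.e_pos.ne' (Fact.out : p.Prime).one_lt
  obtain ⟨x, hx⟩ := IsAlgClosed.exists_pow_nat_eq (ω : k) (n := p ^ e - 1) (by omega)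
  have h0 : x ≠ 0 := fun h => ω.ne_zero (by rw [← hx, h, zero_pow (by omega)])
  have hξ : Units.mk0 x h0 ^ ((p : ℤ) ^ e - 1) = ω := by
    rw [show (p : ℤ) ^ e - 1 = (p ^ e - 1 : ℕ) by rw [Nat.cast_sub h2.le]; simp, zpow_natCast]
    exact Units.ext hx
  have h3 : ∀ i : ℕ, D.Mx ^ i *ᵥ v ∈ P := fun i => by
    induction i with
    | zero => rwa [pow_zero, one_mulVec]
    | succ i ih => rw [pow_succ', ← mulVec_mulVec]; exact hP _ ih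
  refine ⟨(∑ i ∈ Finset.range d, D.Mx ^ i) *ᵥ v, by rw [sum_mulVec]; exact sum_mem fun i _ => h3 i, Units.mk0 x h0, ?_⟩
  rw [D.F_τ, mon_coch, ← map_mul, ← hξ, ← coch_zsmul, ← coch_add, mulVec_mulVec]
  have h4 := mul_geom_sum D.Mx d
  rw [sub_mul, one_mul, sub_eq_iff_eq_add', h1] at h4
  rw [h4, add_mulVec, sub_mulVec, smul_mulVec, one_mulVec, sub_smul, one_smul]

variable (D) in
/-- a stable orthogonal decomposition of the roots -/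
structure Sp (A₁ A₂ : Set (D.I → ℤ)) : Prop where
  un : ∀ a, D.Rt a ↔ a ∈ A₁ ∨ a ∈ A₂
  orth : ∀ a ∈ A₁, ∀ b ∈ A₂, D.wt a ⬝ᵥ D.cor b = 0 ∧ D.wt b ⬝ᵥ D.cor a = 0
  g₁ : ∀ a ∈ A₁, D.g a ∈ A₁
  g₂ : ∀ a ∈ A₂, D.g a ∈ A₂

variable (D) in
/-- the normal subgroup of the first factor -/
def Cc (A₁ A₂ : Set (D.I → ℤ)) : Subgroup Y := (D.T ⊔ D.S A₁) ⊓ Subgroup.centralizer (D.S A₂ : Set Y)

variable (D) in
/-- the Weyl group of a set of roots -/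
def Ww (A : Set (D.I → ℤ)) : Subgroup D.W where
  carrier := {w | ∃ n ∈ D.S A, D.Rp w n}
  one_mem' := ⟨1, one_mem _, rp_one⟩
  mul_mem' := fun ⟨x, hx, h⟩ ⟨y, hy, h'⟩ => ⟨x * y, mul_mem hx hy, h.mul h'⟩
  inv_mem' := fun ⟨x, hx, h⟩ => ⟨x⁻¹, inv_mem hx, h.inv⟩

variable {A₁ A₂ : Set (D.I → ℤ)} {a b : D.I → ℤ} {x y g t c : Y} {w : D.W} {lam : D.R → ℤ}

namespace Sp

variable (h : Sp D A₁ A₂)
include h

theorem symm : Sp D A₂ A₁ := ⟨fun a => (h.un a).trans or_comm, fun a ha b hb => (h.orth b hb a ha).symm, h.g₂, h.g₁⟩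

theorem r₁ : ∀ a ∈ A₁, D.Rt a := fun a ha => (h.un a).2 (.inl ha)

theorem r₂ : ∀ a ∈ A₂, D.Rt a := h.symm.r₁

theorem disj (ha : a ∈ A₁) : a ∉ A₂ := fun hb => by
  have h1 := (h.orth a ha a hb).1
  rw [wt_cor (h.r₁ a ha)] at h1
  exact two_ne_zero h1

theorem neg₁ (ha : a ∈ A₁) : -a ∈ A₁ := ((h.un _).1 (h.r₁ a ha).neg).resolve_right fun hb => by
  have h1 := (h.orth a ha _ hb).2
  rw [map_neg, neg_dotProduct, wt_cor (h.r₁ a ha)] at h1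
  exact two_ne_zero (neg_eq_zero.1 h1)

theorem rf_fix (ha : a ∈ A₁) (hb : b ∈ A₂) : D.act (D.rf b) a = a := by
  rw [D.act_rf (h.r₂ b hb), ← D.pair_cor (h.r₂ b hb), show ∑ j, D.wt a j * D.cor b j = 0 from (h.orth a ha b hb).1,
    zero_smul, sub_zero]

theorem rf_mem (hb : D.Rt b) (ha : a ∈ A₁) : D.act (D.rf b) a ∈ A₁ := by
  rcases (h.un b).1 hb with h1 | h1
  · refine ((h.un _).1 ((h.r₁ a ha).act (D.rf b))).resolve_right fun h2 => h.disj ha ?_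
    have h3 := h.symm.rf_fix h2 h1
    simp only [Datum.act] at h3 h2
    rw [← Module.End.mul_apply, ← map_mul, D.rf_mul_self hb, map_one, Module.End.one_apply] at h3
    exact h3 ▸ h2
  · rwa [h.rf_fix ha h1]

theorem act_mem (w : D.W) : ∀ a ∈ A₁, D.act w a ∈ A₁ := by
  induction w using D.cs.simple_induction_left with
  | one => intro a ha; simpa only [Datum.act, map_one, Module.End.one_apply] using ha
  | mul_simple_left w i ih =>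
    intro a ha
    rw [Datum.act, map_mul, Module.End.mul_apply, ← D.rf_sr]
    exact h.rf_mem (isRoot_sr _ _ i) (ih a ha)

theorem conj (hy : y ∈ G) (hF : y⁻¹ * F y ∈ D.NN) : Sp (D.conj hy hF) A₁ A₂ where
  un := h.un
  orth a ha b hb := by
    rw [ApiC.conj_cor hy hF (h.r₁ a ha), ApiC.conj_cor hy hF (h.r₂ b hb)]
    exact h.orth a ha b hb
  g₁ a ha := h.act_mem _ _ (h.g₁ a ha)
  g₂ a ha := h.symm.act_mem _ _ (h.g₂ a ha)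

theorem le_cen : D.S A₁ ≤ Subgroup.centralizer (D.S A₂ : Set Y) := by
  refine RGD.Sup_le fun a ha => Subgroup.le_centralizer_iff.1 (RGD.Sup_le fun b hb => ?_)
  intro v hv u hu
  have h1 := D.comm (h.r₁ a ha) (h.r₂ b hb) (fun e => h.disj ha (e ▸ hb)) (fun e => h.disj ha (e ▸ h.symm.neg₁ hb)) hu hv
  refine commutatorElement_eq_one_iff_mul_comm.1 (Subgroup.mem_bot.1 ((RGD.Sup_le fun c hc => ?_ : _ ≤ ⊥) h1))
  exfalso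
  rcases (h.un c).1 hc.1 with h2 | h2
  · obtain ⟨m, x, y, -, -, hy, e⟩ := Slope.btwn_map hc (RL.lf D (D.cor b))
    simp only [RL.lf_apply, (h.orth c h2 b hb).1, (h.orth a ha b hb).1, wt_cor (h.r₂ b hb)] at e
    omega
  · obtain ⟨m, x, y, -, hx, -, e⟩ := Slope.btwn_map hc (RL.lf D (D.cor a))
    simp only [RL.lf_apply, (h.orth a ha c h2).2, (h.orth a ha b hb).2, wt_cor (h.r₁ a ha)] at e
    omega

theorem comm (hx : x ∈ D.S A₁) (hy : y ∈ D.S A₂) : x * y = y * x := (h.le_cen hx y hy).symm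

theorem exists_lam : ∃ lam : D.R → ℤ, ∀ a, D.Rt a → (D.wt a ⬝ᵥ lam = 0 ↔ a ∈ A₁) := by
  obtain ⟨lam, h1⟩ := RL.exists_lam D (D.cor '' A₂)
  refine ⟨lam, fun a ha => (h1 a ha).trans ⟨fun e => ((h.un a).1 ha).resolve_right fun h2 => ?_, ?_⟩⟩
  · exact two_ne_zero ((wt_cor ha).symm.trans (e _ ⟨a, h2, rfl⟩))
  · rintro e _ ⟨b, hb, rfl⟩
    exact (h.orth a e b hb).1

theorem Sz_eq (hl : ∀ a, D.Rt a → (D.wt a ⬝ᵥ lam = 0 ↔ a ∈ A₁)) : D.Sz (Zl D lam) = A₁ :=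
  Set.ext fun a => RL.mem_Sz_lf.trans ⟨fun e => (hl a e.1).1 e.2, fun e => ⟨h.r₁ a e, (hl a (h.r₁ a e)).2 e⟩⟩

theorem Lv_eq (hl : ∀ a, D.Rt a → (D.wt a ⬝ᵥ lam = 0 ↔ a ∈ A₁)) : D.cen (Zl D lam) = D.T ⊔ D.S A₁ := by
  rw [Datum.cen, h.Sz_eq hl]

theorem K_le : D.T ⊔ D.S A₁ ≤ G := sup_le D.T_le_G (D.S_le_G h.r₁)

theorem inf_le_T (h1 : x ∈ D.T ⊔ D.S A₁) (h2 : x ∈ D.T ⊔ D.S A₂) : x ∈ D.T := by
  obtain ⟨lam, hl⟩ := h.exists_lam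
  obtain ⟨mu, hm⟩ := h.symm.exists_lam
  have h3 : x ∈ RL.Lv D (lam + mu) := by
    rw [RL.Lv_eq]
    refine ⟨h.K_le h1, ?_⟩
    rintro _ ⟨u, rfl⟩
    have e1 := D.cen_le_centralizer Zl_sub (h.Lv_eq hl ▸ h1) _ ⟨u, rfl⟩
    have e2 := D.cen_le_centralizer Zl_sub (h.symm.Lv_eq hm ▸ h2) _ ⟨u, rfl⟩
    show D.τ (coch (lam + mu) u) * x = x * D.τ (coch (lam + mu) u)
    rw [coch_add, map_mul, mul_assoc, e2, ← mul_assoc, e1, mul_assoc]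
  refine (sup_le le_rfl (RGD.Sup_le fun a ha => ?_) : _ ≤ D.T) h3
  exfalso
  obtain ⟨ha, e⟩ := RL.mem_Sz_lf.1 ha
  rw [RL.lf_add, RL.lf_apply, RL.lf_apply] at e
  rcases (h.un a).1 ha with h4 | h4
  · rw [(hl a ha).2 h4, zero_add] at e
    exact h.disj h4 ((hm a ha).1 e)
  · rw [(hm a ha).2 h4, add_zero] at e
    exact h.disj ((hl a ha).1 e) h4

theorem τ_cen {v : D.R → ℤ} (hv : ∀ a ∈ A₂, D.wt a ⬝ᵥ v = 0) (u : kˣ) :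
    D.τ (coch v u) ∈ Subgroup.centralizer (D.S A₂ : Set Y) := fun _ hx =>
  ((RGD.Sup_le fun a ha => D.X_le_centralizer Zl_sub (RL.mem_Sz_lf.2 ⟨h.r₂ a ha, hv a ha⟩) :
    _ ≤ Subgroup.centralizer (Zl D v)) hx _ ⟨u, rfl⟩).symm

theorem perp_Mx {v : D.R → ℤ} (hv : ∀ a ∈ A₂, D.wt a ⬝ᵥ v = 0) : ∀ a ∈ A₂, D.wt a ⬝ᵥ (D.Mx *ᵥ v) = 0 := fun b hb => by
  obtain ⟨a, ha, rfl⟩ := (D.g_bijOn h.r₂ h.g₂).surjOn hb
  rw [dotProduct_mulVec, D.wt_g (h.r₂ a ha), smul_dotProduct, hv a ha, smul_zero]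

/-- Lang's theorem for the torus of the first factor -/
theorem lang_T (ht : t ∈ D.T) (h1 : t ∈ D.S A₁) :
    ∃ s ∈ D.T, s ∈ Subgroup.centralizer (D.S A₂ : Set Y) ∧ t = s⁻¹ * F s := by
  obtain ⟨lam, hl⟩ := h.exists_lam
  have hs : ∀ a ∈ D.Sz (Zl D lam), D.g a ∈ D.Sz (Zl D lam) := h.Sz_eq hl ▸ h.g₁
  have h2 := KM.Si.Qd.T_inf_S_le (D.sub Zl_sub hs rfl) (x := t) ⟨ht, by
    rw [D.sub_S, show D.io (Zl D lam) '' {a | (D.sub Zl_sub hs rfl).Rt a} = _ from D.io_roots _, h.Sz_eq hl]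
    exact h1⟩
  clear ht h1
  induction h2 using Subgroup.closure_induction with
  | mem x hx =>
    obtain ⟨_, ⟨j, rfl⟩, u, rfl⟩ := hx
    obtain ⟨v, hv, ξ, e⟩ := lang_P (D := D) (P := ⟨⟨⟨{v | ∀ a ∈ A₂, D.wt a ⬝ᵥ v = 0},
      fun hu hv a ha => by rw [dotProduct_add, hu a ha, hv a ha, add_zero]⟩, fun a _ => dotProduct_zero _⟩,
      fun hu a ha => by rw [dotProduct_neg, hu a ha, neg_zero]⟩) (fun v hv => h.perp_Mx hv)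
      (v := D.cor (Base.bs D.cs D.h (D.Lam (Zl D lam)) j))
      (fun a ha => (h.orth _ (h.Sz_eq hl ▸ (⟨Base.bs_root j, Base.bs_mem j⟩ : _ ∈ D.Sz (Zl D lam))) a ha).2) u
    exact ⟨_, D.τ_mem _, h.τ_cen hv ξ, eq_inv_mul_of_mul_eq e.symm⟩
  | one => exact ⟨1, one_mem _, one_mem _, by simp⟩
  | mul x y _ _ hx hy =>
    obtain ⟨s, h1, h2, rfl⟩ := hx
    obtain ⟨s', h3, h4, rfl⟩ := hy
    refine ⟨s * s', mul_mem h1 h3, mul_mem h2 h4, ?_⟩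
    rw [map_mul, _root_.mul_inv_rev, mul_assoc s'⁻¹, ← mul_assoc s⁻¹, ← mul_assoc s'⁻¹,
      D.T_comm (inv_mem h3) (mul_mem (inv_mem h1) (D.F_mem_T h1)), mul_assoc, mul_assoc, mul_assoc]
  | inv x _ hx =>
    obtain ⟨s, h1, h2, rfl⟩ := hx
    refine ⟨s⁻¹, inv_mem h1, inv_mem h2, ?_⟩
    rw [map_inv, _root_.mul_inv_rev, inv_inv, D.T_comm (inv_mem (D.F_mem_T h1)) h1]

theorem F_S (hx : x ∈ D.S A₁) : F x ∈ D.S A₁ := D.F_mem_S h.r₁ h.g₁ hx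

theorem F_K (hx : x ∈ D.T ⊔ D.S A₁) : F x ∈ D.T ⊔ D.S A₁ := by
  obtain ⟨s, hs, t, ht, rfl⟩ := (D.mem_TS h.r₁).1 hx
  rw [map_mul]
  exact mul_mem (Subgroup.mem_sup_right (h.F_S hs)) (Subgroup.mem_sup_left (D.F_mem_T ht))

theorem F_C (hc : c ∈ Cc D A₁ A₂) : F c ∈ Cc D A₁ A₂ := ⟨h.F_K hc.1, fun x hx => by
  obtain ⟨y, rfl⟩ := F.surjective x
  rw [← map_mul, ← map_mul, hc.2 y ((D.amb.mem_iff (H := D.S A₂) (fun _ => h.symm.F_S) y).1 hx)]⟩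

theorem S_le_C : D.S A₁ ≤ Cc D A₁ A₂ := le_inf le_sup_right h.le_cen

theorem C_le : Cc D A₁ A₂ ≤ G := inf_le_left.trans h.K_le

theorem K_norm (hx : x ∈ D.T ⊔ D.S A₁) (hy : y ∈ D.S A₂) : x * y * x⁻¹ ∈ D.S A₂ := by
  obtain ⟨s, hs, t, ht, rfl⟩ := (D.mem_TS h.r₁).1 hx
  have h1 := D.conj_mem_S_of_T h.r₂ ht hy
  rw [show s * t * y * (s * t)⁻¹ = s * (t * y * t⁻¹) * s⁻¹ by group, h.comm hs h1, mul_inv_cancel_right]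
  exact h1

theorem K_norm' (hx : x ∈ D.T ⊔ D.S A₁) (hy : y ∈ D.S A₁) : x * y * x⁻¹ ∈ D.S A₁ := by
  obtain ⟨s, hs, t, ht, rfl⟩ := (D.mem_TS h.r₁).1 hx
  rw [show s * t * y * (s * t)⁻¹ = s * (t * y * t⁻¹) * s⁻¹ by group]
  exact mul_mem (mul_mem hs (D.conj_mem_S_of_T h.r₁ ht hy)) (inv_mem hs)

theorem dec (hg : g ∈ G) : ∃ x ∈ D.T ⊔ D.S A₁, ∃ y ∈ D.S A₂, g = x * y := by
  let H : Subgroup Y :=
    { carrier := {g | ∃ x ∈ D.T ⊔ D.S A₁, ∃ y ∈ D.S A₂, g = x * y}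
      one_mem' := ⟨1, one_mem _, 1, one_mem _, (mul_one _).symm⟩
      mul_mem' := by
        rintro _ _ ⟨x, hx, y, hy, rfl⟩ ⟨x', hx', y', hy', rfl⟩
        exact ⟨x * x', mul_mem hx hx', x'⁻¹ * y * x'⁻¹⁻¹ * y', mul_mem (h.K_norm (inv_mem hx') hy) hy', by group⟩
      inv_mem' := by
        rintro _ ⟨x, hx, y, hy, rfl⟩
        exact ⟨x⁻¹, inv_mem hx, x * y⁻¹ * x⁻¹, h.K_norm hx (inv_mem hy), by group⟩ }
  refine (sup_le (fun t ht => ?_) (RGD.Sup_le fun a ha u hu => ?_) : _ ≤ H) (D.G_eq.ge hg)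
  · exact ⟨t, Subgroup.mem_sup_left ht, 1, one_mem _, (mul_one _).symm⟩
  · rcases (h.un a).1 ha with h1 | h1
    · exact ⟨u, Subgroup.mem_sup_right (RGD.le_Sup h1 hu), 1, one_mem _, (mul_one _).symm⟩
    · exact ⟨1, one_mem _, u, RGD.le_Sup h1 hu, (one_mul _).symm⟩

theorem C_comm (hc : c ∈ Cc D A₁ A₂) (hy : y ∈ D.S A₂) : y * c * y⁻¹ = c := by rw [hc.2 y hy, mul_inv_cancel_right]

theorem K_norm_C (hx : x ∈ D.T ⊔ D.S A₁) (hc : c ∈ Cc D A₁ A₂) : x * c * x⁻¹ ∈ Cc D A₁ A₂ :=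
  ⟨(D.T ⊔ D.S A₁).mul_mem (mul_mem hx hc.1) (inv_mem hx), fun y hy => by
    have h1 := hc.2 _ (h.K_norm (inv_mem hx) hy)
    calc y * (x * c * x⁻¹) = x * (x⁻¹ * y * x⁻¹⁻¹ * c) * x⁻¹ := by group
      _ = _ := by rw [h1]; group⟩

/-- `C` is normal in `G` -/
theorem norm_C (hg : g ∈ G) (hc : c ∈ Cc D A₁ A₂) : g * c * g⁻¹ ∈ Cc D A₁ A₂ := by
  obtain ⟨x, hx, y, hy, rfl⟩ := h.dec hg
  rw [show x * y * c * (x * y)⁻¹ = x * (y * c * y⁻¹) * x⁻¹ by group, h.C_comm hc hy]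
  exact h.K_norm_C hx hc

theorem norm_S (hg : g ∈ G) (hc : c ∈ D.S A₂) : g * c * g⁻¹ ∈ D.S A₂ := by
  obtain ⟨x, hx, y, hy, rfl⟩ := h.dec hg
  rw [show x * y * c * (x * y)⁻¹ = x * (y * c * y⁻¹) * x⁻¹ by group]
  exact h.K_norm hx (mul_mem (mul_mem hy hc) (inv_mem hy))

omit h in
theorem cj_eq {H : Subgroup Y} (hH : ∀ g ∈ G, ∀ c ∈ H, g * c * g⁻¹ ∈ H) (hg : g ∈ G) : cj g H = H :=
  Subgroup.ext fun c => mem_cj.trans ⟨fun e => by simpa [mul_assoc] using hH g hg _ e,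
    fun e => by simpa using hH _ (inv_mem hg) _ e⟩

theorem conj_S₂ (hy : y ∈ G) (hF : y⁻¹ * F y ∈ D.NN) : (D.conj hy hF).S A₂ = D.S A₂ :=
  (D.conj_S hy hF _).trans (cj_eq (fun _ hg _ => h.norm_S hg) hy)

theorem conj_S₁ (hy : y ∈ G) (hF : y⁻¹ * F y ∈ D.NN) : (D.conj hy hF).S A₁ = D.S A₁ := h.symm.conj_S₂ hy hF

theorem conj_C (hy : y ∈ G) (hF : y⁻¹ * F y ∈ D.NN) : Cc (D.conj hy hF) A₁ A₂ = Cc D A₁ A₂ := by
  refine Eq.trans ?_ (cj_eq (fun _ hg _ => h.norm_C hg) hy)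
  rw [Cc, h.conj_S₂, D.conj_S, D.conj_T, ← cj_sup]
  refine Subgroup.ext fun c => ⟨fun e => mem_cj.2 ⟨mem_cj.1 e.1, fun x hx => ?_⟩, fun e => ⟨mem_cj.2 (mem_cj.1 e).1, ?_⟩⟩
  · have h1 := e.2 _ (h.norm_S hy hx)
    calc x * (y⁻¹ * c * y) = y⁻¹ * (y * x * y⁻¹ * c) * y := by group
      _ = _ := by rw [h1]; group
  · exact ((cj_eq (fun _ hg _ => h.norm_C hg) hy).le e).2

theorem comm_mem (hx : x ∈ D.T ⊔ D.S A₁) (hy : y ∈ D.T ⊔ D.S A₁) : ⁅x, y⁆ ∈ Cc D A₁ A₂ := by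
  obtain ⟨s, hs, t, ht, rfl⟩ := (D.mem_TS h.r₁).1 hx
  obtain ⟨s', hs', t', ht', rfl⟩ := (D.mem_TS h.r₁).1 hy
  have h1 := mul_mem (mul_mem (mul_mem hs (D.conj_mem_S_of_T h.r₁ ht hs'))
    (D.conj_mem_S_of_T h.r₁ ht' (inv_mem hs))) (inv_mem hs')
  refine h.S_le_C ?_
  convert h1 using 1
  calc _ = s * (t * s' * t⁻¹) * (t * t' * t⁻¹) * s⁻¹ * t'⁻¹ * s'⁻¹ := by rw [commutatorElement_def]; group
    _ = _ := by rw [D.T_comm ht ht']; group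

/-- the points of the varieties of the first factor -/
theorem pt_dec (hx : x ∈ D.T ⊔ D.S A₁) (h1 : x⁻¹ * F x ∈ D.S A₁) :
    ∃ c ∈ Cc D A₁ A₂, ∃ t ∈ D.T, F t = t ∧ x = c * t := by
  obtain ⟨u, hu, t, ht, rfl⟩ := (D.mem_TS h.r₁).1 hx
  have h2 := D.conj_mem_S_of_T h.r₁ (inv_mem ht) (mul_mem (inv_mem hu) (h.F_S hu))
  obtain ⟨s, h3, h4, e⟩ := h.lang_T (mul_mem (inv_mem ht) (D.F_mem_T ht)) (by
    convert mul_mem (inv_mem h2) h1 using 1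
    rw [map_mul]
    group)
  refine ⟨u * s, mul_mem (h.S_le_C hu) ⟨Subgroup.mem_sup_left h3, h4⟩, s⁻¹ * t, mul_mem (inv_mem h3) ht, ?_, by group⟩
  rw [map_mul, map_inv, ← mul_inv_cancel_left t (F t), e, D.T_comm ht (mul_mem (inv_mem h3) (D.F_mem_T h3)),
    D.T_comm (inv_mem h3) (D.F_mem_T h3)]
  group

/-- `G ^ F` acts on `C` as `K ^ F` -/
theorem act_K (hg : g ∈ GF F G) : ∃ x ∈ GF F (D.T ⊔ D.S A₁), ∀ c ∈ Cc D A₁ A₂, g * c * g⁻¹ = x * c * x⁻¹ := by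
  obtain ⟨x, hx, y, hy, rfl⟩ := h.dec hg.1
  have h1 : x⁻¹ * F x = y * (F y)⁻¹ := by
    have h1 : F x * F y = x * y := (map_mul F x y).symm.trans hg.2
    rw [eq_mul_inv_of_mul_eq h1]
    group
  have h2 : x⁻¹ * F x ∈ D.S A₂ := h1 ▸ mul_mem hy (inv_mem (h.symm.F_S hy))
  obtain ⟨s, h3, h4, e⟩ := h.symm.lang_T (h.inf_le_T (mul_mem (inv_mem hx) (h.F_K hx)) (Subgroup.mem_sup_right h2)) h2
  refine ⟨x * s⁻¹, ⟨mul_mem hx (Subgroup.mem_sup_left (inv_mem h3)), ?_⟩, fun c hc => ?_⟩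
  · show F (x * s⁻¹) = x * s⁻¹
    rw [map_mul, map_inv, ← mul_inv_cancel_left x (F x), e]
    group
  · obtain ⟨u, hu, t, ht, rfl⟩ := (D.mem_TS h.r₁).1 hc.1
    have h5 : s⁻¹ * (u * t) * s = u * t := by
      rw [mul_assoc, mul_assoc, D.T_comm ht h3, ← mul_assoc u, h4 u hu]
      group
    calc _ = x * (y * (u * t) * y⁻¹) * x⁻¹ := by group
      _ = x * (s⁻¹ * (u * t) * s) * x⁻¹ := by rw [h.C_comm hc hy, h5]
      _ = _ := by group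

/-- the points of the varieties of the second factor -/
theorem pt_act (hx : x ∈ G) (h1 : x⁻¹ * F x ∈ D.S A₂) : ∃ g ∈ GF F G, ∀ c ∈ Cc D A₁ A₂, x * c * x⁻¹ = g * c * g⁻¹ := by
  obtain ⟨y, hy, e⟩ := D.lang_S h.r₂ h.g₂ h1
  refine ⟨x * y⁻¹, ⟨G.mul_mem hx (inv_mem (D.S_le_G h.r₂ hy)), ?_⟩, fun c hc => ?_⟩
  · show F (x * y⁻¹) = x * y⁻¹
    rw [map_mul, map_inv, ← mul_inv_cancel_left x (F x), e]
    group
  · rw [show x * y⁻¹ * c * (x * y⁻¹)⁻¹ = x * (y⁻¹ * c * y⁻¹⁻¹) * x⁻¹ by group, h.C_comm hc (inv_mem hy)]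

theorem rf_mem_Ww (ha : a ∈ A₁) : D.rf a ∈ Ww D A₁ := by
  obtain ⟨m, hm, h1⟩ := D.exists_rp_rf (h.r₁ a ha)
  obtain ⟨s, hs, t, ht, rfl⟩ := (D.mem_TS h.r₁).1
    (sup_le_sup_left (sup_le (RGD.le_Sup ha) (RGD.le_Sup (h.neg₁ ha))) _ hm)
  refine ⟨s, hs, ?_⟩
  simpa using h1.mul (rp_of_mem (cs := D.cs) (hN := D.nsys) (inv_mem ht))

theorem Ww_comm {v : D.W} (hv : v ∈ Ww D A₁) (hw : w ∈ Ww D A₂) : v * w = w * v := by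
  obtain ⟨x, hx, h1⟩ := hv
  obtain ⟨y, hy, h2⟩ := hw
  exact D.rp_unique (h1.mul h2) (h.comm hx hy ▸ h2.mul h1)

theorem W_dec (w : D.W) : ∃ u ∈ Ww D A₁, ∃ v ∈ Ww D A₂, w = u * v := by
  induction w using D.cs.simple_induction_left with
  | one => exact ⟨1, one_mem _, 1, one_mem _, (mul_one _).symm⟩
  | mul_simple_left w i ih =>
    obtain ⟨u, hu, v, hv, rfl⟩ := ih
    rw [← D.rf_sr]
    rcases (h.un _).1 (isRoot_sr D.cs D.h i) with h1 | h1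
    · exact ⟨_, mul_mem (h.rf_mem_Ww h1) hu, v, hv, (mul_assoc _ _ _).symm⟩
    · have h2 := h.symm.rf_mem_Ww h1
      exact ⟨u, hu, _, mul_mem h2 hv, by rw [← mul_assoc, ← h.Ww_comm hu h2, mul_assoc]⟩

theorem Ww_fix (hw : w ∈ Ww D A₂) (ha : a ∈ A₁) : D.act w a = a := by
  obtain ⟨y, hy, h1⟩ := hw
  refine D.X_injective ((h.r₁ a ha).act w) (h.r₁ a ha) ((D.conj_rp h1 (h.r₁ a ha)).symm.trans (Subgroup.ext fun u => ?_))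
  have h2 : ∀ u ∈ D.X a, ∀ y ∈ D.S A₂, y * u * y⁻¹ = u := fun u hu y hy => h.C_comm (h.S_le_C (RGD.le_Sup ha hu)) hy
  rw [mem_cj]
  refine ⟨fun e => ?_, fun e => by rwa [← h2 u e _ (inv_mem hy), inv_inv] at e⟩
  rwa [← h2 _ e y hy, show y * (y⁻¹ * u * y) * y⁻¹ = u by group] at e

theorem exists_y (hw : w ∈ Ww D A₂) : ∃ y ∈ D.S A₂, D.Rp w (y⁻¹ * F y) := by
  obtain ⟨n, hn, h1⟩ := hw
  obtain ⟨y, hy, rfl⟩ := D.lang_S h.r₂ h.g₂ hn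
  exact ⟨y, hy, h1⟩

variable (hl : ∀ a, D.Rt a → (D.wt a ⬝ᵥ lam = 0 ↔ a ∈ A₁)) (hy : y ∈ D.S A₂) (hF : y⁻¹ * F y ∈ D.NN)

/-- the Levi subgroup with the roots `A₁` in a frame from the second factor -/
@[reducible] noncomputable def sb : Sb D where
  y := y
  hy := D.S_le_G h.r₂ hy
  hF := hF
  Z := Zl (D.conj (D.S_le_G h.r₂ hy) hF) lam
  hZ := Zl_sub
  hg := by
    rw [(h.conj _ hF).Sz_eq hl]
    exact (h.conj _ hF).g₁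

theorem sb_Sz : (D.conj (D.S_le_G h.r₂ hy) hF).Sz (h.sb hl hy hF).Z = A₁ := (h.conj _ hF).Sz_eq hl

theorem sb_K : (h.sb hl hy hF).K = (D.conj (D.S_le_G h.r₂ hy) hF).T ⊔ (D.conj (D.S_le_G h.r₂ hy) hF).S A₁ :=
  (h.conj _ hF).Lv_eq hl

theorem C_le_K : Cc D A₁ A₂ ≤ (h.sb hl hy hF).K := by
  rw [h.sb_K, ← h.conj_C (D.S_le_G h.r₂ hy) hF]
  exact inf_le_left

theorem sb_comm (hx : x ∈ (h.sb hl hy hF).K) (hg : g ∈ (h.sb hl hy hF).K) : ⁅x, g⁆ ∈ Cc D A₁ A₂ := by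
  rw [h.sb_K] at hx hg
  exact h.conj_C (D.S_le_G h.r₂ hy) hF ▸ (h.conj _ hF).comm_mem hx hg

theorem sb_act (hg : g ∈ GF F G) : ∃ x ∈ GF F (h.sb hl hy hF).K, ∀ c ∈ Cc D A₁ A₂, g * c * g⁻¹ = x * c * x⁻¹ := by
  rw [h.sb_K, ← h.conj_C (D.S_le_G h.r₂ hy) hF]
  exact (h.conj _ hF).act_K hg

theorem sb_w : (h.sb hl hy hF).w ∈ Ww D A₂ := ⟨_, mul_mem (inv_mem hy) (h.symm.F_S hy), D.rp_pr hF⟩

theorem sb_qs (hq : D.QS) : (h.sb hl hy hF).E.QS := fun c hc h0 => by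
  have h1 := ((D.conj _ hF).sub_rt (h.sb hl hy hF).hZ (h.sb hl hy hF).hg rfl).1 hc
  rw [← Base.iota_nonneg_iff ((h.sb hl hy hF).E.g_root c hc)]
  show 0 ≤ (D.conj (D.S_le_G h.r₂ hy) hF).io _ _
  rw [(D.conj _ hF).sub_g (h.sb hl hy hF).hZ (h.sb hl hy hF).hg rfl hc, D.conj_g]
  exact ((h.Ww_fix (h.sb_w hl hy hF) (h.g₁ _ (h.sb_Sz hl hy hF ▸ h1))).symm ▸ hq _ h1.1 (Base.iota_nonneg h0) :)

theorem sb_rts {a : Vec D.R × Vec D.R} : a ∈ rts (h.sb hl hy hF).E ↔ ∃ b ∈ A₁, a = (D.wt b, D.cor b) := by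
  rw [Sb.mem_rts, h.sb_Sz]

theorem sb_U : (h.sb hl hy hF).E.U = D.S (RGD.Pos D.cs D.h ∩ A₁) := by
  refine ((D.conj _ hF).sub_U' (h.sb hl hy hF).hZ (h.sb hl hy hF).hg rfl).trans ?_
  rw [h.sb_Sz, D.conj_S]
  have h2 : ∀ u ∈ D.S (RGD.Pos D.cs D.h ∩ A₁), ∀ y ∈ D.S A₂, y * u * y⁻¹ = u := fun u hu y hy =>
    h.C_comm (h.S_le_C (RGD.Sup_mono Set.inter_subset_right hu)) hy
  refine Subgroup.ext fun u => mem_cj.trans ⟨fun e => ?_, fun e => by rwa [← h2 u e _ (inv_mem hy), inv_inv] at e⟩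
  rwa [← h2 _ e y hy, show y * (y⁻¹ * u * y) * y⁻¹ = u by group] at e

include hl in
theorem sb_Rad : (D.conj (D.S_le_G h.r₂ hy) hF).S (Rad (D.conj (D.S_le_G h.r₂ hy) hF)
    (RL.lf (D.conj (D.S_le_G h.r₂ hy) hF) lam)) ≤ D.S A₂ := by
  rw [← h.conj_S₂ (D.S_le_G h.r₂ hy) hF]
  exact RGD.Sup_mono fun a ha => ((h.un a).1 ha.1).resolve_left fun e => ha.2.ne' ((hl a ha.1).2 e)

theorem rp_of {u : (h.sb hl hy hF).E.W} (hx : x ∈ D.S A₁) (h1 : (h.sb hl hy hF).E.Rp u x) :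
    D.Rp ((h.sb hl hy hF).sw u) x := by
  have h2 := (D.conj _ hF).rp_of_sub (h.sb hl hy hF).hZ (h.sb hl hy hF).hg rfl h1
  rwa [← h.C_comm (h.S_le_C hx) hy, D.conj_rp_iff] at h2

theorem exists_u (hx : x ∈ D.S A₁) (h1 : D.Rp w x) : ∃ u, (h.sb hl hy hF).sw u = w ∧ (h.sb hl hy hF).E.Rp u x := by
  obtain ⟨u, hu⟩ : x ∈ (h.sb hl hy hF).E.NN := by
    refine ((D.conj _ hF).sub_NN (h.sb hl hy hF).hZ (h.sb hl hy hF).hg rfl).ge ⟨⟨w, ?_⟩, h.C_le_K hl hy hF (h.S_le_C hx)⟩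
    rw [← h.C_comm (h.S_le_C hx) hy]
    exact (D.conj_rp_iff _ hF).2 h1
  exact ⟨u, D.rp_unique (h.rp_of hl hy hF hx hu) h1, hu⟩

theorem rp_to {u : (h.sb hl hy hF).E.W} (hx : x ∈ D.S A₁) (h1 : D.Rp ((h.sb hl hy hF).sw u) x) :
    (h.sb hl hy hF).E.Rp u x := by
  obtain ⟨v, e, h2⟩ := h.exists_u hl hy hF hx h1
  rwa [Sb.sw_injective _ e] at h2

theorem sw_surj (hw : w ∈ Ww D A₁) : ∃ u, (h.sb hl hy hF).sw u = w :=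
  hw.elim fun _ e => (h.exists_u hl hy hF e.1 e.2).imp fun _ e => e.1

theorem sw_mem (u : (h.sb hl hy hF).E.W) : (h.sb hl hy hF).sw u ∈ Ww D A₁ := by
  obtain ⟨m, hm, -⟩ := (h.sb hl hy hF).E.exists_rp u
  obtain ⟨s, hs, t, ht, rfl⟩ := ((D.conj _ hF).mem_TS h.r₁).1 (h.sb_K hl hy hF ▸ hm.mem_G)
  rw [h.conj_S₁] at hs
  refine ⟨s, hs, h.rp_of hl hy hF hs ?_⟩
  simpa using hm.mul (rp_of_mem (cs := (h.sb hl hy hF).E.cs) (hN := (h.sb hl hy hF).E.nsys) (inv_mem ht))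

end Sp

/-- the roots in a set of pairs -/
def rA (D : Datum p ρ F G) (Ψ : RS D.R) : Set (D.I → ℤ) := {b | D.Rt b ∧ (D.wt b, D.cor b) ∈ Ψ}

theorem sp_of {j : ℕ} {B : Mat D.R} {Ψ₁ Ψ₂ : RS D.R} (h : St D j B) (hd : Dec (rts D) Ψ₁ Ψ₂ B) :
    Sp D (rA D Ψ₁) (rA D Ψ₂) := by
  have key : ∀ {Ψ : RS D.R}, Ψ ⊆ rts D → Nm B Ψ → ∀ a ∈ rA D Ψ, D.g a ∈ rA D Ψ := fun e h1 a ha => by
    have h2 := (h.nm_iff (w := 1) e).1 (by rwa [D.Wm_one, one_mul]) a ha.1 ha.2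
    simp only [Datum.act, map_one, Module.End.one_apply] at h2
    exact ⟨D.g_root a ha.1, h2⟩
  exact ⟨fun a => ⟨fun e => (hd.union.le (rt_mem e)).imp (⟨e, ·⟩) (⟨e, ·⟩), fun e => e.elim And.left And.left⟩,
    fun a ha b hb => hd.orth _ ha.2 _ hb.2, key (hd.union ▸ Set.subset_union_left) hd.nm₁,
    key (hd.union ▸ Set.subset_union_right) hd.nm₂⟩

theorem mem_rA {Ψ : RS D.R} (e : Ψ ⊆ rts D) {a : Vec D.R × Vec D.R} : a ∈ Ψ ↔ ∃ b ∈ rA D Ψ, a = (D.wt b, D.cor b) :=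
  ⟨fun h => (e h).elim fun b ⟨h1, h2⟩ => ⟨b, ⟨h1, h2 ▸ h⟩, h2⟩, fun ⟨_, h, e⟩ => e ▸ h.2⟩

theorem perp_iff {Ψ : RS D.R} (e : Ψ ⊆ rts D) {v : Vec D.R} : Perp Ψ v ↔ ∀ a ∈ rA D Ψ, D.wt a ⬝ᵥ v = 0 :=
  ⟨fun h _ ha => h _ ha.2, fun h a ha => by
    obtain ⟨b, hb, rfl⟩ := (mem_rA e).1 ha
    exact h b hb⟩

end Cfsg.Agent.HZ.L.Cr.Grp
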